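import Mathlib

/-! Certificates for small groups of 2 x 2 matrices over `ZMod p`. -/

set_option autoImplicit false

namespace Cfsg.Agent.PermMat.Cert

variable {p : ℕ}

/-- A 2 x 2 matrix as a quadruple (row by row). -/
abbrev Quad (p : ℕ) := ZMod p × ZMod p × ZMod p × ZMod p

/-- The matrix of a quadruple. -/
def toMat : Quad p → Matrix (Fin 2) (Fin 2) (ZMod p)
  | (a, b, c, d) => !![a, b; c, d]

/-- Multiplication of quadruples. -/
def qmul : Quad p → Quad p → Quad p
  | (a, b, c, d), (a', b', c', d') =>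
    (a * a' + b * c', a * b' + b * d', c * a' + d * c', c * b' + d * d')

theorem toMat_qmul (x y : Quad p) : toMat (qmul x y) = toMat x * toMat y := by
  obtain ⟨a, b, c, d⟩ := x
  obtain ⟨a', b', c', d'⟩ := y
  simp [toMat, qmul, Matrix.mul_fin_two]

theorem toMat_one : toMat ((1, 0, 0, 1) : Quad p) = 1 := by
  simp [toMat, Matrix.one_fin_two]

theorem toMat_injective : Function.Injective (toMat : Quad p → _) := by
  rintro ⟨a, b, c, d⟩ ⟨a', b', c', d'⟩ h
  have h0 := congrFun (congrFun h 0) 0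
  have h1 := congrFun (congrFun h 0) 1
  have h2 := congrFun (congrFun h 1) 0
  have h3 := congrFun (congrFun h 1) 1
  simp [toMat] at h0 h1 h2 h3
  simp [h0, h1, h2, h3]

/-- First column. -/
def col : Quad p → ZMod p × ZMod p
  | (a, _, c, _) => (a, c)

theorem toMat_mulVec_e1 (x : Quad p) :
    (toMat x).mulVec ![1, 0] = ![(col x).1, (col x).2] := by
  obtain ⟨a, b, c, d⟩ := x
  funext i
  fin_cases i <;> simp [toMat, col, Matrix.mulVec, dotProduct, Fin.sum_univ_two]

/-- Each element of the list is a generator times an earlier one. -/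
def gen? (gens : List (Quad p)) : List (Quad p) → List (Quad p) → Bool
  | _, [] => true
  | seen, x :: xs =>
    (gens.any fun g => seen.any fun s => decide (qmul g s = x)) && gen? gens (x :: seen) xs

theorem gen?_mem (gens : List (Quad p)) (H : Set (Quad p))
    (hmul : ∀ g ∈ gens, ∀ s ∈ H, qmul g s ∈ H) :
    ∀ seen xs : List (Quad p), gen? gens seen xs = true → (∀ s ∈ seen, s ∈ H) →
      ∀ x ∈ xs, x ∈ H := by
  intro seen xs
  induction xs generalizing seen with
  | nil => intro _ _ x hx; cases hx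
  | cons y ys ih =>
    intro h hseen x hx
    rw [gen?, Bool.and_eq_true, List.any_eq_true] at h
    obtain ⟨⟨g, hg, hgs⟩, hrec⟩ := h
    rw [List.any_eq_true] at hgs
    obtain ⟨s, hs, hsy⟩ := hgs
    have hy : y ∈ H := (of_decide_eq_true hsy) ▸ hmul g hg s (hseen s hs)
    rcases List.mem_cons.1 hx with rfl | hx
    · exact hy
    · refine ih _ hrec (fun t ht => ?_) x hx
      rcases List.mem_cons.1 ht with rfl | ht
      · exact hy
      · exact hseen t ht

/-- The certificate: a list starting at the identity, closed under left multiplication by the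
generators and generated by them. -/
def cert (gens L : List (Quad p)) : Bool :=
  (gens.all fun g => L.all fun s => decide (qmul g s ∈ L)) &&
    (decide (L.head? = some ((1, 0, 0, 1) : Quad p)) && gen? gens [(1, 0, 0, 1)] L.tail)

variable [Fact p.Prime]

theorem exists_mem {gens L : List (Quad p)} {s : Set (GL (Fin 2) (ZMod p))}
    (hs : (fun M : GL (Fin 2) (ZMod p) => (M : Matrix (Fin 2) (Fin 2) (ZMod p))) '' s =
      toMat '' {g | g ∈ gens})
    (hhead : L.head? = some ((1, 0, 0, 1) : Quad p))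
    (hgen : gen? gens [(1, 0, 0, 1)] L.tail = true) {x : Quad p} (hx : x ∈ L) :
    ∃ N ∈ Subgroup.closure s, (N : Matrix (Fin 2) (Fin 2) (ZMod p)) = toMat x := by
  let H : Set (Quad p) :=
    {y | ∃ N ∈ Subgroup.closure s, (N : Matrix (Fin 2) (Fin 2) (ZMod p)) = toMat y}
  have h0 : ((1, 0, 0, 1) : Quad p) ∈ H := ⟨1, one_mem _, by rw [toMat_one]; rfl⟩
  show x ∈ H
  rw [← List.cons_head?_tail hhead, List.mem_cons] at hx
  rcases hx with rfl | hx
  · exact h0
  · refine gen?_mem gens H (fun g hg t ⟨N, hN, hN'⟩ => ?_) _ _ hgen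
      (fun t ht => by rw [List.mem_singleton] at ht; rw [ht]; exact h0) x hx
    obtain ⟨g', hg', hg''⟩ := hs.ge ⟨g, hg, rfl⟩
    refine ⟨g' * N, mul_mem (Subgroup.subset_closure hg') hN, ?_⟩
    rw [Units.val_mul, toMat_qmul, hN', ← hg'']

theorem closure_eq {gens L : List (Quad p)} {s : Set (GL (Fin 2) (ZMod p))}
    (hs : (fun M : GL (Fin 2) (ZMod p) => (M : Matrix (Fin 2) (Fin 2) (ZMod p))) '' s =
      toMat '' {g | g ∈ gens})
    (hc : cert gens L = true) (M : GL (Fin 2) (ZMod p)) :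
    M ∈ Subgroup.closure s ↔
      ∃ x ∈ L, (M : Matrix (Fin 2) (Fin 2) (ZMod p)) = toMat x := by
  classical
  simp only [cert, Bool.and_eq_true, List.all_eq_true, decide_eq_true_eq] at hc
  obtain ⟨hclosed, hhead, hgen⟩ := hc
  constructor
  · intro hM
    rw [← Subgroup.mem_toSubmonoid, Subgroup.closure_toSubmonoid_of_finite] at hM
    induction hM using Submonoid.closure_induction_left with
    | one => exact ⟨_, List.mem_of_head? hhead, by rw [toMat_one]; rfl⟩
    | mul_left g hg N _ ih =>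
      obtain ⟨y, hy, hy'⟩ := ih
      obtain ⟨q, hq, hq'⟩ := hs.subset ⟨g, hg, rfl⟩
      exact ⟨qmul q y, hclosed q hq y hy, by rw [Units.val_mul, toMat_qmul, hy', hq']⟩
  · rintro ⟨x, hx, hxM⟩
    obtain ⟨N, hN, hN'⟩ := exists_mem hs hhead hgen hx
    rwa [show M = N from Units.ext (hxM.trans hN'.symm)]

theorem card_closure {gens L : List (Quad p)} {s : Set (GL (Fin 2) (ZMod p))}
    (hs : (fun M : GL (Fin 2) (ZMod p) => (M : Matrix (Fin 2) (Fin 2) (ZMod p))) '' s =
      toMat '' {g | g ∈ gens})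
    (hc : cert gens L = true) (hnd : L.Nodup) :
    Nat.card (Subgroup.closure s) = L.length := by
  classical
  have key := closure_eq hs hc
  rw [← List.toFinset_card_of_nodup hnd, ← Finset.card_image_of_injective _ toMat_injective,
    ← Set.ncard_coe_finset,
    show Nat.card (Subgroup.closure s) =
      Nat.card (Subgroup.closure s : Set (GL (Fin 2) (ZMod p))) from rfl,
    ← Nat.card_image_of_injective (f := fun M : GL (Fin 2) (ZMod p) =>
      (M : Matrix (Fin 2) (Fin 2) (ZMod p))) (fun a b h => Units.ext h)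
      (Subgroup.closure s : Set (GL (Fin 2) (ZMod p))), Nat.card_coe_set_eq]
  congr 1
  ext M
  simp only [Set.mem_image, SetLike.mem_coe, key, Finset.coe_image, List.coe_toFinset,
    Set.mem_ofPred_eq]
  constructor
  · rintro ⟨N, ⟨x, hx, hN⟩, rfl⟩; exact ⟨x, hx, hN.symm⟩
  · rintro ⟨x, hx, rfl⟩
    simp only [cert, Bool.and_eq_true, decide_eq_true_eq] at hc
    obtain ⟨N, -, hN⟩ := exists_mem hs hc.2.1 hc.2.2 hx
    exact ⟨N, ⟨x, hx, hN⟩, hN⟩

/-- A subgroup of order `p ^ 2 - 1` whose only element fixing `(1, 0)` is `1` is regular on the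
non-zero vectors. -/
theorem regular {H : Subgroup (GL (Fin 2) (ZMod p))} (hcard : Nat.card H = p ^ 2 - 1)
    (hfree : ∀ h ∈ H, (h : Matrix (Fin 2) (Fin 2) (ZMod p)).mulVec ![1, 0] = ![1, 0] → h = 1) :
    ∀ v w : Fin 2 → ZMod p, v ≠ 0 → w ≠ 0 →
      ∃! h : H, Matrix.mulVec ((h : GL (Fin 2) (ZMod p)) : Matrix (Fin 2) (Fin 2) (ZMod p)) v = w := by
  classical
  set e : Fin 2 → ZMod p := ![1, 0] with he
  have he0 : e ≠ 0 := fun h => one_ne_zero (congrFun h 0)
  have hne : ∀ (h : GL (Fin 2) (ZMod p)) (v : Fin 2 → ZMod p), v ≠ 0 →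
      (h : Matrix (Fin 2) (Fin 2) (ZMod p)).mulVec v ≠ 0 := by
    intro h v hv h0
    apply hv
    have := congrArg ((h⁻¹ : GL (Fin 2) (ZMod p)) : Matrix (Fin 2) (Fin 2) (ZMod p)).mulVec h0
    rwa [Matrix.mulVec_zero, Matrix.mulVec_mulVec, ← Units.val_mul, inv_mul_cancel, Units.val_one,
      Matrix.one_mulVec] at this
  have hmul : ∀ (g h : GL (Fin 2) (ZMod p)) (v : Fin 2 → ZMod p),
      ((g * h : GL (Fin 2) (ZMod p)) : Matrix (Fin 2) (Fin 2) (ZMod p)).mulVec v =
        (g : Matrix (Fin 2) (Fin 2) (ZMod p)).mulVec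
          ((h : Matrix (Fin 2) (Fin 2) (ZMod p)).mulVec v) := fun g h v => by
    rw [Units.val_mul, Matrix.mulVec_mulVec]
  let f : H → {v : Fin 2 → ZMod p // v ≠ 0} := fun h => ⟨_, hne (h : GL (Fin 2) (ZMod p)) e he0⟩
  have hinj : Function.Injective f := by
    intro g h hgh
    have hgh' : ((g : GL (Fin 2) (ZMod p)) : Matrix (Fin 2) (Fin 2) (ZMod p)).mulVec e =
        ((h : GL (Fin 2) (ZMod p)) : Matrix (Fin 2) (Fin 2) (ZMod p)).mulVec e :=
      congrArg Subtype.val hgh
    refine Subtype.ext ?_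
    have := hfree ((h : GL (Fin 2) (ZMod p))⁻¹ * g) (mul_mem (inv_mem h.2) g.2) (by
      rw [hmul, hgh', ← hmul, inv_mul_cancel, Units.val_one,
        Matrix.one_mulVec])
    exact (inv_mul_eq_one.1 this).symm
  have hbij : Function.Bijective f := by
    refine (Fintype.bijective_iff_injective_and_card _).2 ⟨hinj, ?_⟩
    rw [← Nat.card_eq_fintype_card, hcard, Fintype.card_subtype_compl, Fintype.card_subtype_eq,
      Fintype.card_fun, ZMod.card, Fintype.card_fin]
  intro v w hv hw
  obtain ⟨a, ha⟩ := hbij.2 ⟨v, hv⟩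
  obtain ⟨b, hb⟩ := hbij.2 ⟨w, hw⟩
  have ha' : ((a : GL (Fin 2) (ZMod p)) : Matrix (Fin 2) (Fin 2) (ZMod p)).mulVec e = v :=
    congrArg Subtype.val ha
  have hb' : ((b : GL (Fin 2) (ZMod p)) : Matrix (Fin 2) (Fin 2) (ZMod p)).mulVec e = w :=
    congrArg Subtype.val hb
  refine ⟨b * a⁻¹, ?_, fun h hh => ?_⟩
  · show Matrix.mulVec _ v = w
    rw [← ha', ← hmul, Subgroup.coe_mul, Subgroup.coe_inv, inv_mul_cancel_right, hb']
  · have : f (h * a) = f b := Subtype.ext (by
      show Matrix.mulVec _ e = Matrix.mulVec _ e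
      rw [Subgroup.coe_mul, hmul, ha', show Matrix.mulVec _ v = w from hh, hb'])
    rw [eq_mul_inv_iff_mul_eq]
    exact hinj this

end Cfsg.Agent.PermMat.Cert
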